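import Groth.Agent.DevissLib.KilledImm

/-!
# Quasi-coherence descends along closed immersions
-/

set_option autoImplicit false

universe u

open CategoryTheory CategoryTheory.Limits AlgebraicGeometry TopologicalSpace Opposite

namespace Groth.Agent.ImmPCLib

variable {Z X : Scheme.{u}} (i : Z ⟶ X) [IsClosedImmersion i]

/-- A module with quasi-coherent direct image along a closed immersion is quasi-coherent. -/
theorem isQCoh_of_push (G : Z.Modules) (h : Coh.IsQCoh ((Scheme.Modules.pushforward i).obj G)) :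
    Coh.IsQCoh G := by
  haveI : Coh.IsQCoh ((Coh.push i).obj G) := h
  refine QCohLib.isQCoh_of_localizingAt G (fun U : X.affineOpens => i ⁻¹ᵁ U.1)
    (fun U => U.2.preimage i) ?_ fun U g => ?_
  · refine eq_top_iff.mpr fun p _ => ?_
    obtain ⟨U, hU, hp⟩ := QCohLib.exists_affine_nhd (i p)
    exact Opens.mem_iSup.mpr ⟨⟨U, hU⟩, hp⟩
  obtain ⟨c, rfl⟩ := i.app_surjective U.1 U.2 g
  obtain ⟨h1, h2⟩ := QCohLib.localizingAt_of_isQCoh U.2 ((Coh.push i).obj G) c
  refine (QCohLib.locPair_congr (hWV := i.preimage_mono (X.basicOpen_le c)) (hVU := le_rfl)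
    (hWV' := Z.basicOpen_le _) (hVU' := le_rfl) rfl (Scheme.preimage_basicOpen i c)).mp
    ⟨fun s => ?_, fun t ht => ?_⟩
  · obtain ⟨n, t, ht⟩ := h1 (show Γ((Coh.push i).obj G, X.basicOpen c) from s)
    refine ⟨n, t, ?_⟩
    refine ht.trans ?_
    rw [QCohLib.push_smul, map_pow, QCohLib.app_res]
  · obtain ⟨n, hn⟩ := h2 (show Γ((Coh.push i).obj G, U.1) from t) ht
    refine ⟨n, ?_⟩
    rw [QCohLib.push_smul, map_pow, QCohLib.app_res] at hn
    exact hn

end Groth.Agent.ImmPCLib
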