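import Groth.Agent.PerfLib.PCohSummand
import Groth.Agent.PerfLib.LiftLocal

/-!
# Killing the top cohomology by a free module, locally
-/

set_option autoImplicit false
set_option linter.style.haveILetI false
set_option backward.isDefEq.respectTransparency false
set_option backward.isDefEq.respectTransparency.types false

universe u

open CategoryTheory CategoryTheory.Limits CategoryTheory.Pretriangulated AlgebraicGeometry
open HomologicalComplex CochainComplex

attribute [local instance] HasDerivedCategory.standard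

namespace Groth.Agent.ImmPCLib

open Groth.Agent.PerfLib (resD resC res)

variable {Z : Scheme.{u}}

/-- The map from a complex living in degrees `≤ b` to its cohomology in degree `b`. -/
theorem exists_toHomology (C : CochainComplex Z.Modules ℤ) (b : ℤ) [C.IsStrictlyLE b] :
    ∃ f : C ⟶ (single Z.Modules (ComplexShape.up ℤ) b).obj (C.homology b),
      IsIso (homologyMap f b) := by
  have hz : C.d b (b + 1) = 0 :=
    (CochainComplex.isZero_of_isStrictlyLE C b (b + 1) (by omega)).eq_of_tgt _ _
  haveI := C.isIso_homologyι b (b + 1) (by simp) hz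
  let φ : C.X b ⟶ C.homology b := C.pOpcycles b ≫ inv (C.homologyι b)
  let f : C ⟶ (single Z.Modules (ComplexShape.up ℤ) b).obj (C.homology b) :=
    mkHomToSingle φ (fun i hi => by simp only [φ, d_pOpcycles_assoc, zero_comp])
  refine ⟨f, ?_⟩
  let S := (single Z.Modules (ComplexShape.up ℤ) b).obj (C.homology b)
  have hS : S.d b (b + 1) = 0 := single_obj_d _ _ _ _ _
  have hS' : S.d (b - 1) b = 0 := single_obj_d _ _ _ _ _
  haveI := S.isIso_homologyι b (b + 1) (by simp) hS
  haveI : IsIso (S.pOpcycles b) := S.isIso_pOpcycles (b - 1) b (by simp) hS'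
  have h : opcyclesMap f b = inv (C.homologyι b) ≫ (singleObjXSelf (ComplexShape.up ℤ) b (C.homology b)).inv ≫
      S.pOpcycles b := by
    rw [← cancel_epi (C.pOpcycles b), p_opcyclesMap]
    simp [f, φ, S]
  haveI : IsIso (opcyclesMap f b) := by rw [h]; infer_instance
  have h' : homologyMap f b = C.homologyι b ≫ opcyclesMap f b ≫ inv (S.homologyι b) := by
    rw [← homologyι_naturality_assoc, IsIso.hom_inv_id, Category.comp_id]
  rw [h']
  infer_instance

/-- Near every point a free module in degree `b` surjects onto the top cohomology. -/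
theorem exists_triangle_local (E : DCoh.D Z) (b : ℤ) (hb : ∀ i, b < i → IsZero (DCoh.HD E i))
    (F : Z.Modules) (hF : KFlatLib.IsFinFree F) (p : F ⟶ DCoh.HD E b) [Epi p] (z : Z) :
    ∃ (V : Z.Opens) (_ : z ∈ V) (T : Triangle (DCoh.D (V : Scheme.{u})))
      (_ : T ∈ distinguishedTriangles),
      Nonempty (T.obj₁ ≅ (DCoh.inD (V : Scheme.{u}) ((res V.ι).obj F))⟦-b⟧) ∧
        Nonempty (T.obj₂ ≅ (resD V.ι).obj E) ∧ ∀ i, b ≤ i → IsZero (DCoh.HD T.obj₃ i) := by
  haveI : E.IsLE b := (DerivedCategory.isLE_iff E b).2 hb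
  obtain ⟨C, hC, ⟨e⟩⟩ := E.exists_iso_Q_obj_of_isLE b
  obtain ⟨f, hf⟩ := exists_toHomology C b
  let eH : DCoh.HD E b ≅ C.homology b :=
    (DerivedCategory.homologyFunctor Z.Modules b).mapIso e ≪≫
      (DerivedCategory.homologyFunctorFactors Z.Modules b).app C
  let S := single Z.Modules (ComplexShape.up ℤ) b
  let α := S.map (p ≫ eH.hom)
  have hP : DCoh.IsStrictlyPerfect (S.obj F) := by
    refine ⟨⟨b, b, fun i hi => isZero_single_obj_X _ _ _ _ (by omega)⟩, fun i => ?_⟩
    by_cases h : i = b
    · subst h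
      exact Groth.Agent.PerfLib.isFinLocFree_of_iso (singleObjXSelf (ComplexShape.up ℤ) i F).symm
        (KFlatLib.isFinLocFree_of_isFinFree hF)
    · exact KFlatLib.isFinLocFree_of_isFinFree (KFlatLib.isFinFree_of_isZero
        (isZero_single_obj_X _ _ _ _ h))
  have hlt : ∀ i, b < i → ((S.obj (C.homology b)).ExactAt i ∧ C.ExactAt i) := fun i hi =>
    ⟨exactAt_single_obj _ _ _ _ (by omega), ExactAt.of_isZero (CochainComplex.isZero_of_isStrictlyLE C b i hi)⟩
  have hcone : ∀ i, b ≤ i → (mappingCone f).ExactAt i :=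
    Groth.Agent.PerfLib.exactAt_cone f b (fun j hj => ⟨0, (hlt j hj).2.isZero_homology.eq_of_src _ _,
      (hlt j hj).1.isZero_homology.eq_of_src _ _⟩) inferInstance
  obtain ⟨V, β, hz, ⟨H⟩⟩ := Groth.Agent.PerfLib.exists_lift_local_opens α f hP b
    (fun i hi => isZero_single_obj_X _ _ _ _ (by omega)) hcone z
  let R := resC V.ι
  have hepi : Epi (homologyMap β b) := by
    let ν := Groth.Agent.DerLib.ExactHomology.mapHomologyFunctorIso (res V.ι) b
    have hα : Epi (homologyMap α b) :=
      ((MorphismProperty.epimorphisms _).arrow_mk_iso_iff (Arrow.isoMk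
        (singleObjHomologySelfIso (ComplexShape.up ℤ) b F)
        (singleObjHomologySelfIso (ComplexShape.up ℤ) b (C.homology b))
        (singleObjHomologySelfIso_hom_naturality (ComplexShape.up ℤ) b (p ≫ eH.hom)).symm)).2
        (inferInstanceAs (Epi (p ≫ eH.hom)))
    have hRα : Epi (homologyMap (R.map α) b) :=
      ((MorphismProperty.epimorphisms _).arrow_mk_iso_iff (Arrow.isoMk (ν.app _) (ν.app _)
        (ν.hom.naturality α).symm)).2 (inferInstanceAs (Epi ((res V.ι).map (homologyMap α b))))
    have hRf : IsIso (homologyMap (R.map f) b) :=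
      (NatIso.isIso_map_iff ν f).2 (inferInstanceAs (IsIso ((res V.ι).map (homologyMap f b))))
    rw [← H.homologyMap_eq b, homologyMap_comp] at hRα
    have h2 := epi_comp (homologyMap β b ≫ homologyMap (R.map f) b) (inv (homologyMap (R.map f) b))
    rwa [Category.assoc, IsIso.hom_inv_id, Category.comp_id] at h2
  have hzero : ∀ i, b < i → IsIso (homologyMap β i) := fun i hi => by
    have h1 : (R.obj (S.obj F)).ExactAt i :=
      ExactAt.of_isZero ((res V.ι).map_isZero (isZero_single_obj_X _ _ _ _ (by omega)))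
    have h2 : (R.obj C).ExactAt i :=
      ExactAt.of_isZero ((res V.ι).map_isZero (CochainComplex.isZero_of_isStrictlyLE C b i hi))
    exact ⟨0, h1.isZero_homology.eq_of_src _ _, h2.isZero_homology.eq_of_src _ _⟩
  refine ⟨V, hz, DerivedCategory.Q.mapTriangle.obj (CochainComplex.mappingCone.triangle β),
    (DerivedCategory.mem_distTriang_iff _).2 ⟨_, _, β, ⟨Iso.refl _⟩⟩, ⟨?_⟩,
    ⟨(Groth.Agent.PerfLib.resDQIso V.ι C).symm ≪≫ (resD V.ι).mapIso e.symm⟩, fun i hi =>
      Groth.Agent.PerfLib.isZero_HD_of_exactAt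
        (Groth.Agent.PerfLib.exactAt_cone β b hzero hepi i hi)⟩
  exact DerivedCategory.Q.mapIso ((singleMapHomologicalComplex (res V.ι) (ComplexShape.up ℤ) b).app F) ≪≫
    ((DerivedCategory.singleFunctorIsoCompQ _ b).app _).symm ≪≫
    (((DerivedCategory.singleFunctors (V : Scheme.{u}).Modules).shiftIso (-b) b 0 (by omega)).app _).symm ≪≫
    Iso.refl _

end Groth.Agent.ImmPCLib
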