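import Groth.Agent.ImmPCLib.FT
import Groth.Agent.ImmPCLib.Triangle
import Groth.Agent.PerfLib.FiniteType
import Groth.Agent.ProjClosedImmLib.Main
import Groth.Agent.DCohRestrLib.Iso

/-!
# Pseudo-coherence and direct image along a closed immersion
-/

set_option autoImplicit false
set_option linter.style.haveILetI false
set_option backward.isDefEq.respectTransparency false
set_option backward.isDefEq.respectTransparency.types false

universe u

open CategoryTheory CategoryTheory.Limits CategoryTheory.Pretriangulated AlgebraicGeometry TopologicalSpace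

attribute [local instance] HasDerivedCategory.standard

namespace Groth.Agent.ImmPCLib

open Groth.Agent.PerfLib (resD resC res isPC_of_iso)

variable {Z X : Scheme.{u}} (i : Z ⟶ X) [IsClosedImmersion i]

theorem lim_push : PreservesFiniteLimits (Scheme.Modules.pushforward i) := by
  haveI : PreservesLimitsOfSize.{0, 0} (Scheme.Modules.pushforward i) :=
    (Scheme.Modules.pullbackPushforwardAdjunction i).rightAdjoint_preservesLimits
  exact PreservesLimitsOfSize.preservesFiniteLimits _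

theorem colim_push : PreservesFiniteColimits (Scheme.Modules.pushforward i) :=
  PreservesColimitsOfSize.preservesFiniteColimits _

attribute [local instance] lim_push colim_push

/-- Direct image along a closed immersion, on derived categories. -/
noncomputable abbrev pushD : DCoh.D Z ⥤ DCoh.D X :=
  (Scheme.Modules.pushforward i).mapDerivedCategory

theorem pushD_toD (G : CochainComplex Z.Modules ℤ) :
    Nonempty ((pushD i).obj (DCoh.toD Z G) ≅
      DCoh.toD X (((Scheme.Modules.pushforward i).mapHomologicalComplex (ComplexShape.up ℤ)).obj G)) :=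
  ⟨(Scheme.Modules.pushforward i).mapDerivedCategoryFactors.app G⟩

theorem nonempty_resPush (U : X.Opens) (E : DCoh.D Z) :
    Nonempty ((resD U.ι).obj ((pushD i).obj E) ≅
      (pushD (i ∣_ U)).obj ((resD (i ⁻¹ᵁ U).ι).obj E)) := by
  let ν := DCohRestrLib.restrictPushIso i U
  let C := DerivedCategory.Q.objPreimage E
  let e := DerivedCategory.Q.objObjPreimageIso E
  exact ⟨(resD U.ι).mapIso ((pushD i).mapIso e.symm ≪≫
      (Scheme.Modules.pushforward i).mapDerivedCategoryFactors.app C) ≪≫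
    Groth.Agent.PerfLib.resDQIso U.ι _ ≪≫
    DerivedCategory.Q.mapIso ((NatIso.mapHomologicalComplex ν (ComplexShape.up ℤ)).app C) ≪≫
    ((Scheme.Modules.pushforward (i ∣_ U)).mapDerivedCategoryFactors.app ((resC (i ⁻¹ᵁ U).ι).obj C)).symm ≪≫
    (pushD (i ∣_ U)).mapIso ((Groth.Agent.PerfLib.resDQIso (i ⁻¹ᵁ U).ι C).symm ≪≫
      (resD (i ⁻¹ᵁ U).ι).mapIso e)⟩

theorem isZero_D_of_isEmpty {W : Scheme.{u}} [IsEmpty W] (K : DCoh.D W) : IsZero K := by
  refine (DerivedCategory.Q.map_isZero ?_).of_iso (DerivedCategory.Q.objObjPreimageIso K).symm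
  rw [IsZero.iff_id_eq_zero]
  refine HomologicalComplex.hom_ext _ _ fun j => ?_
  exact (KFlatLib.isZero_of_stalks fun x : W => isEmptyElim x).eq_of_src _ _

theorem isZero_res_push (U : X.Opens) (hU : ∀ z, i z ∉ U) (E : DCoh.D Z) :
    IsZero ((resD U.ι).obj ((pushD i).obj E)) := by
  obtain ⟨c⟩ := nonempty_resPush i U E
  haveI : IsEmpty (i ⁻¹ᵁ U : Scheme.{u}) := ⟨fun w => hU w.1 w.2⟩
  exact ((pushD (i ∣_ U)).map_isZero (isZero_D_of_isEmpty _)).of_iso c

theorem isZero_of_push {M : Z.Modules} (h : IsZero ((Scheme.Modules.pushforward i).obj M)) :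
    IsZero M := by
  rw [IsZero.iff_id_eq_zero] at h ⊢
  refine Scheme.Modules.hom_ext _ _ fun V => ?_
  obtain ⟨V', rfl⟩ := exists_preimage_opens i V
  exact congrArg (fun φ => Scheme.Modules.Hom.app φ V') h

theorem isZero_HD_push_iff (E : DCoh.D Z) (j : ℤ) :
    IsZero (DCoh.HD ((pushD i).obj E) j) ↔ IsZero (DCoh.HD E j) := by
  let e := (Groth.Agent.DerLib.ExactHomology.homologyIso (Scheme.Modules.pushforward i) j).app E
  exact ⟨fun h => isZero_of_push i (h.of_iso e.symm),
    fun h => ((Scheme.Modules.pushforward i).map_isZero h).of_iso e⟩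

/-- The equivalence is local on the target, near the image. -/
theorem iff_of_local (m : ℤ) (E : DCoh.D Z)
    (h : ∀ z : Z, ∃ U : X.Opens, i z ∈ U ∧
      (DCoh.IsPseudoCoherentD m ((resD (i ⁻¹ᵁ U).ι).obj E) ↔
        DCoh.IsPseudoCoherentD m ((pushD (i ∣_ U)).obj ((resD (i ⁻¹ᵁ U).ι).obj E)))) :
    DCoh.IsPseudoCoherentD m E ↔ DCoh.IsPseudoCoherentD m ((pushD i).obj E) := by
  constructor
  · intro hp
    refine Groth.Agent.PerfLib.isPC_local fun x => ?_
    by_cases hx : x ∈ Set.range i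
    · obtain ⟨z, rfl⟩ := hx
      obtain ⟨U, hU, hiff⟩ := h z
      obtain ⟨c⟩ := nonempty_resPush i U E
      exact ⟨U, U.ι, inferInstance, ⟨i z, hU⟩, rfl,
        isPC_of_iso c.symm (hiff.1 (Groth.Agent.PerfLib.isPC_res hp _))⟩
    · let U : X.Opens := ⟨(Set.range i)ᶜ, i.isClosedEmbedding.isClosed_range.isOpen_compl⟩
      exact ⟨U, U.ι, inferInstance, ⟨x, hx⟩, rfl, Groth.Agent.PerfLib.isPC_of_isZero_above fun j _ =>
        (DerivedCategory.homologyFunctor _ j).map_isZero (isZero_res_push i U (fun z hz => hz ⟨z, rfl⟩) E)⟩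
  · intro hp
    refine Groth.Agent.PerfLib.isPC_local fun z => ?_
    obtain ⟨U, hU, hiff⟩ := h z
    obtain ⟨c⟩ := nonempty_resPush i U E
    exact ⟨(i ⁻¹ᵁ U : Z.Opens), (i ⁻¹ᵁ U).ι, inferInstance, ⟨z, hU⟩, rfl,
      hiff.2 (isPC_of_iso c (Groth.Agent.PerfLib.isPC_res hp _))⟩

/-- The hypothesis on the structure sheaf. -/
def PCPushUnit : Prop :=
  ∀ m : ℤ, DCoh.IsPseudoCoherentD m
    (DCoh.inD X ((Scheme.Modules.pushforward i).obj (Coh.structureModule Z)))

theorem PCPushUnit.restrict {i : Z ⟶ X} [IsClosedImmersion i] (hO : PCPushUnit i) (U : X.Opens) :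
    PCPushUnit (i ∣_ U) := fun m =>
  isPC_of_iso (((res U.ι).mapDerivedCategorySingleFunctor 0).app _ ≪≫
      (DerivedCategory.singleFunctor _ 0).mapIso ((DCohRestrLib.restrictPushIso i U).app _ ≪≫
        (Scheme.Modules.pushforward (i ∣_ U)).mapIso (Scheme.Modules.restrictUnitIso _)))
    (Groth.Agent.PerfLib.isPC_res (hO m) U.ι)

theorem isPC_biprod {W : Scheme.{u}} {m : ℤ} {K L : DCoh.D W} (hK : DCoh.IsPseudoCoherentD m K)
    (hL : DCoh.IsPseudoCoherentD m L) : DCoh.IsPseudoCoherentD m (K ⊞ L) :=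
  Groth.Agent.PerfLib.isPC_obj₂ (binaryBiproductTriangle K L)
    (binaryBiproductTriangle_distinguished K L) m hK hL

theorem PCPushUnit.finFree {i : Z ⟶ X} [IsClosedImmersion i] (hO : PCPushUnit i) {F : Z.Modules}
    (hF : KFlatLib.IsFinFree F) (m : ℤ) :
    DCoh.IsPseudoCoherentD m ((pushD i).obj (DCoh.inD Z F)) := by
  let T := DerivedCategory.singleFunctor Z.Modules 0 ⋙ pushD i
  obtain ⟨n, ⟨e⟩⟩ := hF
  refine isPC_of_iso (T.mapIso e).symm ?_
  clear e F
  induction n with
  | zero =>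
    refine Groth.Agent.PerfLib.isPC_of_isZero_above fun j _ =>
      (DerivedCategory.homologyFunctor _ j).map_isZero (T.map_isZero ?_)
    rw [IsZero.iff_id_eq_zero]
    exact Sigma.hom_ext _ _ fun k => k.elim0
  | succ n ih =>
    haveI := preservesBinaryBiproducts_of_preservesBiproducts T
    exact isPC_of_iso (T.mapIso (Groth.Agent.PerfLib.freeModSucc' Z n) ≪≫ T.mapBiprod _ _).symm
      (isPC_biprod (isPC_of_iso (((Scheme.Modules.pushforward i).mapDerivedCategorySingleFunctor 0).app _).symm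
        (hO m)) ih)

theorem isFinFree_top {W : Scheme.{u}} {F : W.Modules} (hF : KFlatLib.IsFinFree F) (V : W.Opens) :
    KFlatLib.IsFinFree ((res V.ι).obj F) :=
  Groth.Agent.PerfLib.isFinFree_res V.ι hF

omit i in
theorem iff_bdd (n : ℕ) : ∀ {Z X : Scheme.{u}} (i : Z ⟶ X) [IsClosedImmersion i], PCPushUnit i →
    ∀ (E : DCoh.D Z) (b m : ℤ), b + 1 - m ≤ n → (∀ j, b < j → IsZero (DCoh.HD E j)) →
      (DCoh.IsPseudoCoherentD m E ↔ DCoh.IsPseudoCoherentD m ((pushD i).obj E)) := by
  induction n with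
  | zero =>
    intro Z X i _ _ E b m hn hb
    exact iff_of_true (Groth.Agent.PerfLib.isPC_of_isZero_above fun j hj => hb j (by omega))
      (Groth.Agent.PerfLib.isPC_of_isZero_above fun j hj => (isZero_HD_push_iff i E j).2 (hb j (by omega)))
  | succ n ih =>
    intro Z X i _ hO E b m hn hb
    by_cases hlt : b + 1 - m ≤ n
    · exact ih i hO E b m hlt hb
    have hmb : m ≤ b := by omega
    let eH := fun j => (Groth.Agent.DerLib.ExactHomology.homologyIso (Scheme.Modules.pushforward i) j).app E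
    have main : CohB1.IsFT (DCoh.HD E b) →
        (DCoh.IsPseudoCoherentD m E ↔ DCoh.IsPseudoCoherentD m ((pushD i).obj E)) := by
      intro hFT
      refine iff_of_local i m E fun z => ?_
      obtain ⟨V₀, hV₀, k, s, hs⟩ := QCohLib.exists_genOn_of_isFT hFT z
      let σ := (QCohLib.genTop_restrict hs).generatingSections
      have hσ : KFlatLib.IsFinFree (SheafOfModules.free (R := (V₀ : Scheme.{u}).ringCatSheaf) σ.I :
          (V₀ : Scheme.{u}).Modules) :=
        @Groth.Agent.PerfLib.isFinFree_free _ σ.I (inferInstanceAs (Finite (ULift.{u} (Fin k))))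
      obtain ⟨U, rfl⟩ := exists_preimage_opens i V₀
      refine ⟨U, hV₀, ?_⟩
      let Z' : Scheme.{u} := (i ⁻¹ᵁ U : Z.Opens)
      let E' : DCoh.D Z' := (resD (i ⁻¹ᵁ U).ι).obj E
      have hb' : ∀ j, b < j → IsZero (DCoh.HD E' j) := fun j hj =>
        ((res (i ⁻¹ᵁ U).ι).map_isZero (hb j hj)).of_iso (Groth.Agent.PerfLib.resHDIso _ E j)
      let π : (SheafOfModules.free (R := Z'.ringCatSheaf) σ.I : Z'.Modules) ⟶
          (DCoh.HD E b).restrict (i ⁻¹ᵁ U).ι := σ.π
      haveI : Epi π := σ.epi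
      let p := π ≫ (Groth.Agent.PerfLib.resHDIso (i ⁻¹ᵁ U).ι E b).inv
      refine iff_of_local (i ∣_ U) m E' fun w => ?_
      obtain ⟨V, hV, T, hT, ⟨e₁⟩, ⟨e₂⟩, h₃⟩ := exists_triangle_local E' b hb' _ hσ p w
      obtain ⟨U', rfl⟩ := exists_preimage_opens (i ∣_ U) V
      refine ⟨U', hV, ?_⟩
      have hO' : PCPushUnit ((i ∣_ U) ∣_ U') := (hO.restrict U).restrict U'
      have h3 := ih ((i ∣_ U) ∣_ U') hO' T.obj₃ (b - 1) m (by omega) fun j hj => h₃ j (by omega)
      have hf := isFinFree_top hσ ((i ∣_ U) ⁻¹ᵁ U')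
      have h1 : ∀ l, DCoh.IsPseudoCoherentD l T.obj₁ := fun l => by
        have := Groth.Agent.PerfLib.isPC_shift (Groth.Agent.PerfLib.isPC_single_locFree (l - b)
          (KFlatLib.isFinLocFree_of_isFinFree hf)) (-b)
        rw [show l - b - -b = l by ring] at this
        exact isPC_of_iso e₁.symm this
      let P := pushD ((i ∣_ U) ∣_ U')
      have h1' : ∀ l, DCoh.IsPseudoCoherentD l (P.obj T.obj₁) := fun l => by
        have := Groth.Agent.PerfLib.isPC_shift (hO'.finFree hf (l - b)) (-b)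
        rw [show l - b - -b = l by ring] at this
        exact isPC_of_iso (P.mapIso e₁).symm (isPC_of_iso ((P.commShiftIso (-b)).app _).symm this)
      have hT' := P.map_distinguished T hT
      have l := h1 (m + 1)
      constructor
      · intro h
        exact isPC_of_iso (P.mapIso e₂) (Groth.Agent.PerfLib.isPC_obj₂ _ hT' m (h1' m) (h3.1
          (Groth.Agent.PerfLib.isPC_obj₃ T hT m l (isPC_of_iso e₂.symm h))))
      · intro h
        exact isPC_of_iso e₂ (Groth.Agent.PerfLib.isPC_obj₂ T hT m (h1 m) (h3.2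
          (Groth.Agent.PerfLib.isPC_obj₃ _ hT' m (h1' (m + 1)) (isPC_of_iso (P.mapIso e₂).symm h))))
    exact ⟨fun h => (main (Groth.Agent.PerfLib.isFT_HD_top (Groth.Agent.PerfLib.isPC_mono hmb h) hb)).1 h,
      fun h => (main ((isFT_push_iff i _).1 (QCohLib.isFT_of_iso (eH b)
        (Groth.Agent.PerfLib.isFT_HD_top (Groth.Agent.PerfLib.isPC_mono hmb h)
          fun j hj => (isZero_HD_push_iff i E j).2 (hb j hj))))).2 h⟩

omit i in
theorem exists_bound {W : Scheme.{u}} {m : ℤ} {K : DCoh.D W} (h : DCoh.IsPseudoCoherentD m K) (x : W) :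
    ∃ (U : W.Opens) (_ : x ∈ U) (b : ℤ), ∀ j, b < j → IsZero (DCoh.HD ((resD U.ι).obj K) j) := by
  obtain ⟨U, hx, hU⟩ := h x
  obtain ⟨E, α, ⟨⟨a, b, hE⟩, -⟩, hα⟩ := hU _ ⟨DerivedCategory.Q.objObjPreimageIso K⟩
  refine ⟨U, hx, max b m, fun j hj => ?_⟩
  haveI := hα.1 j (by omega)
  exact ((Groth.Agent.PerfLib.isZero_HD_of_exactAt (HomologicalComplex.ExactAt.of_isZero
      (hE j (Or.inr (by omega))))).of_iso
    (asIso ((DerivedCategory.homologyFunctor _ j).map α)).symm).of_iso
    ((DerivedCategory.homologyFunctor _ j).mapIso ((resD U.ι).mapIso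
      (DerivedCategory.Q.objObjPreimageIso K).symm ≪≫ Groth.Agent.PerfLib.resDQIso U.ι _))

/-- Pseudo-coherence passes through a direct image along a closed immersion. -/
theorem isPC_push_iff (hO : PCPushUnit i) (E : DCoh.D Z) (m : ℤ) :
    DCoh.IsPseudoCoherentD m E ↔ DCoh.IsPseudoCoherentD m ((pushD i).obj E) := by
  have main : (∀ z : Z, ∃ (U : X.Opens) (_ : i z ∈ U) (b : ℤ),
      ∀ j, b < j → IsZero (DCoh.HD ((resD (i ⁻¹ᵁ U).ι).obj E) j)) →
      (DCoh.IsPseudoCoherentD m E ↔ DCoh.IsPseudoCoherentD m ((pushD i).obj E)) := fun h => by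
    refine iff_of_local i m E fun z => ?_
    obtain ⟨U, hU, b, hb⟩ := h z
    exact ⟨U, hU, iff_bdd (b + 1 - m).toNat (i ∣_ U) (hO.restrict U) _ b m (Int.self_le_toNat _) hb⟩
  constructor
  · intro h
    refine (main fun z => ?_).1 h
    obtain ⟨V, hV, b, hb⟩ := exists_bound h z
    obtain ⟨U, rfl⟩ := exists_preimage_opens i V
    exact ⟨U, hV, b, hb⟩
  · intro h
    refine (main fun z => ?_).2 h
    obtain ⟨U, hU, b, hb⟩ := exists_bound h (i z)
    obtain ⟨c⟩ := nonempty_resPush i U E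
    exact ⟨U, hU, b, fun j hj => (isZero_HD_push_iff (i ∣_ U) _ j).1
      ((hb j hj).of_iso ((DerivedCategory.homologyFunctor _ j).mapIso c).symm)⟩

end Groth.Agent.ImmPCLib
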