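import Groth.Agent.ImmPCLib.Basic

/-!
# Closed immersions with finitely pseudo-coherent structure sheaf
-/

set_option autoImplicit false
set_option linter.style.haveILetI false
set_option backward.isDefEq.respectTransparency false
set_option backward.isDefEq.respectTransparency.types false

universe u

open CategoryTheory CategoryTheory.Limits CategoryTheory.Pretriangulated AlgebraicGeometry TopologicalSpace

attribute [local instance] HasDerivedCategory.standard

namespace Groth.Agent.ImmPCLib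

open Groth.Agent.PerfLib (resD resC res isPC_of_iso)

attribute [local instance] lim_push colim_push

variable {Z X : Scheme.{u}} (i : Z ⟶ X) [IsClosedImmersion i]

/-- The hypothesis on the structure sheaf, in one degree. -/
def PCPushUnitAt (k : ℤ) : Prop :=
  DCoh.IsPseudoCoherentD k (DCoh.inD X ((Scheme.Modules.pushforward i).obj (Coh.structureModule Z)))

/-- Implications are local on the target, near the image. -/
theorem dir_of_local (m : ℤ) (E : DCoh.D Z) {p q : Prop}
    (h : ∀ z : Z, ∃ U : X.Opens, i z ∈ U ∧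
      (p → DCoh.IsPseudoCoherentD m ((resD (i ⁻¹ᵁ U).ι).obj E) →
        DCoh.IsPseudoCoherentD m ((pushD (i ∣_ U)).obj ((resD (i ⁻¹ᵁ U).ι).obj E))) ∧
      (q → DCoh.IsPseudoCoherentD m ((pushD (i ∣_ U)).obj ((resD (i ⁻¹ᵁ U).ι).obj E)) →
        DCoh.IsPseudoCoherentD m ((resD (i ⁻¹ᵁ U).ι).obj E))) :
    (p → DCoh.IsPseudoCoherentD m E → DCoh.IsPseudoCoherentD m ((pushD i).obj E)) ∧
      (q → DCoh.IsPseudoCoherentD m ((pushD i).obj E) → DCoh.IsPseudoCoherentD m E) := by
  constructor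
  · intro hP hp
    refine Groth.Agent.PerfLib.isPC_local fun x => ?_
    by_cases hx : x ∈ Set.range i
    · obtain ⟨z, rfl⟩ := hx
      obtain ⟨U, hU, hiff, -⟩ := h z
      obtain ⟨c⟩ := nonempty_resPush i U E
      exact ⟨U, U.ι, inferInstance, ⟨i z, hU⟩, rfl,
        isPC_of_iso c.symm (hiff hP (Groth.Agent.PerfLib.isPC_res hp _))⟩
    · let U : X.Opens := ⟨(Set.range i)ᶜ, i.isClosedEmbedding.isClosed_range.isOpen_compl⟩
      exact ⟨U, U.ι, inferInstance, ⟨x, hx⟩, rfl, Groth.Agent.PerfLib.isPC_of_isZero_above fun j _ =>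
        (DerivedCategory.homologyFunctor _ j).map_isZero (isZero_res_push i U (fun z hz => hz ⟨z, rfl⟩) E)⟩
  · intro hQ hp
    refine Groth.Agent.PerfLib.isPC_local fun z => ?_
    obtain ⟨U, hU, -, hiff⟩ := h z
    obtain ⟨c⟩ := nonempty_resPush i U E
    exact ⟨(i ⁻¹ᵁ U : Z.Opens), (i ⁻¹ᵁ U).ι, inferInstance, ⟨z, hU⟩, rfl,
      hiff hQ (isPC_of_iso c (Groth.Agent.PerfLib.isPC_res hp _))⟩

theorem PCPushUnitAt.restrict {i : Z ⟶ X} [IsClosedImmersion i] {k : ℤ} (hO : PCPushUnitAt i k) (U : X.Opens) :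
    PCPushUnitAt (i ∣_ U) k :=
  isPC_of_iso (((res U.ι).mapDerivedCategorySingleFunctor 0).app _ ≪≫
      (DerivedCategory.singleFunctor _ 0).mapIso ((DCohRestrLib.restrictPushIso i U).app _ ≪≫
        (Scheme.Modules.pushforward (i ∣_ U)).mapIso (Scheme.Modules.restrictUnitIso _)))
    (Groth.Agent.PerfLib.isPC_res hO U.ι)

theorem PCPushUnitAt.finFree {i : Z ⟶ X} [IsClosedImmersion i] {k : ℤ} (hO : PCPushUnitAt i k) {F : Z.Modules}
    (hF : KFlatLib.IsFinFree F) (m : ℤ) (hkm : k ≤ m) :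
    DCoh.IsPseudoCoherentD m ((pushD i).obj (DCoh.inD Z F)) := by
  let T := DerivedCategory.singleFunctor Z.Modules 0 ⋙ pushD i
  obtain ⟨n, ⟨e⟩⟩ := hF
  refine isPC_of_iso (T.mapIso e).symm ?_
  clear e F
  induction n with
  | zero =>
    refine Groth.Agent.PerfLib.isPC_of_isZero_above fun j _ =>
      (DerivedCategory.homologyFunctor _ j).map_isZero (T.map_isZero ?_)
    rw [IsZero.iff_id_eq_zero]
    exact Sigma.hom_ext _ _ fun k => k.elim0
  | succ n ih =>
    haveI := preservesBinaryBiproducts_of_preservesBiproducts T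
    exact isPC_of_iso (T.mapIso (Groth.Agent.PerfLib.freeModSucc' Z n) ≪≫ T.mapBiprod _ _).symm
      (isPC_biprod (isPC_of_iso (((Scheme.Modules.pushforward i).mapDerivedCategorySingleFunctor 0).app _).symm
        (Groth.Agent.PerfLib.isPC_mono hkm hO)) ih)

omit i in
theorem dir_bdd (n : ℕ) : ∀ {Z X : Scheme.{u}} (i : Z ⟶ X) [IsClosedImmersion i] (k : ℤ),
    PCPushUnitAt i k → ∀ (E : DCoh.D Z) (b m : ℤ), b + 1 - m ≤ n → (∀ j, b < j → IsZero (DCoh.HD E j)) →
      (k ≤ m - b → DCoh.IsPseudoCoherentD m E → DCoh.IsPseudoCoherentD m ((pushD i).obj E)) ∧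
      (k ≤ m + 1 - b → DCoh.IsPseudoCoherentD m ((pushD i).obj E) → DCoh.IsPseudoCoherentD m E) := by
  induction n with
  | zero =>
    intro Z X i _ k _ E b m hn hb
    exact ⟨fun _ _ => Groth.Agent.PerfLib.isPC_of_isZero_above fun j hj =>
      (isZero_HD_push_iff i E j).2 (hb j (by omega)),
      fun _ _ => Groth.Agent.PerfLib.isPC_of_isZero_above fun j hj => hb j (by omega)⟩
  | succ n ih =>
    intro Z X i _ k hO E b m hn hb
    by_cases hlt : b + 1 - m ≤ n
    · exact ih i k hO E b m hlt hb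
    have hmb : m ≤ b := by omega
    let eH := fun j => (Groth.Agent.DerLib.ExactHomology.homologyIso (Scheme.Modules.pushforward i) j).app E
    have main : CohB1.IsFT (DCoh.HD E b) →
        (k ≤ m - b → DCoh.IsPseudoCoherentD m E → DCoh.IsPseudoCoherentD m ((pushD i).obj E)) ∧
        (k ≤ m + 1 - b → DCoh.IsPseudoCoherentD m ((pushD i).obj E) → DCoh.IsPseudoCoherentD m E) := by
      intro hFT
      refine dir_of_local i m E fun z => ?_
      obtain ⟨V₀, hV₀, r, s, hs⟩ := QCohLib.exists_genOn_of_isFT hFT z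
      let σ := (QCohLib.genTop_restrict hs).generatingSections
      have hσ : KFlatLib.IsFinFree (SheafOfModules.free (R := (V₀ : Scheme.{u}).ringCatSheaf) σ.I :
          (V₀ : Scheme.{u}).Modules) :=
        @Groth.Agent.PerfLib.isFinFree_free _ σ.I (inferInstanceAs (Finite (ULift.{u} (Fin r))))
      obtain ⟨U, rfl⟩ := exists_preimage_opens i V₀
      refine ⟨U, hV₀, ?_⟩
      let Z' : Scheme.{u} := (i ⁻¹ᵁ U : Z.Opens)
      let E' : DCoh.D Z' := (resD (i ⁻¹ᵁ U).ι).obj E
      have hb' : ∀ j, b < j → IsZero (DCoh.HD E' j) := fun j hj =>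
        ((res (i ⁻¹ᵁ U).ι).map_isZero (hb j hj)).of_iso (Groth.Agent.PerfLib.resHDIso _ E j)
      let π : (SheafOfModules.free (R := Z'.ringCatSheaf) σ.I : Z'.Modules) ⟶
          (DCoh.HD E b).restrict (i ⁻¹ᵁ U).ι := σ.π
      haveI : Epi π := σ.epi
      let p := π ≫ (Groth.Agent.PerfLib.resHDIso (i ⁻¹ᵁ U).ι E b).inv
      refine dir_of_local (i ∣_ U) m E' fun w => ?_
      obtain ⟨V, hV, T, hT, ⟨e₁⟩, ⟨e₂⟩, h₃⟩ := exists_triangle_local E' b hb' _ hσ p w
      obtain ⟨U', rfl⟩ := exists_preimage_opens (i ∣_ U) V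
      refine ⟨U', hV, ?_⟩
      have hO' : PCPushUnitAt ((i ∣_ U) ∣_ U') k := (hO.restrict U).restrict U'
      have h3 := ih ((i ∣_ U) ∣_ U') k hO' T.obj₃ (b - 1) m (by omega) fun j hj => h₃ j (by omega)
      have hf := isFinFree_top hσ ((i ∣_ U) ⁻¹ᵁ U')
      have h1 : ∀ l, DCoh.IsPseudoCoherentD l T.obj₁ := fun l => by
        have := Groth.Agent.PerfLib.isPC_shift (Groth.Agent.PerfLib.isPC_single_locFree (l - b)
          (KFlatLib.isFinLocFree_of_isFinFree hf)) (-b)
        rw [show l - b - -b = l by ring] at this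
        exact isPC_of_iso e₁.symm this
      let P := pushD ((i ∣_ U) ∣_ U')
      have h1' : ∀ l, k ≤ l - b → DCoh.IsPseudoCoherentD l (P.obj T.obj₁) := fun l hl => by
        have := Groth.Agent.PerfLib.isPC_shift (hO'.finFree hf (l - b) hl) (-b)
        rw [show l - b - -b = l by ring] at this
        exact isPC_of_iso (P.mapIso e₁).symm (isPC_of_iso ((P.commShiftIso (-b)).app _).symm this)
      have hT' := P.map_distinguished T hT
      constructor
      · intro hk h
        exact isPC_of_iso (P.mapIso e₂) (Groth.Agent.PerfLib.isPC_obj₂ _ hT' m (h1' m (by omega))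
          (h3.1 (by omega)
            (Groth.Agent.PerfLib.isPC_obj₃ T hT m (h1 (m + 1)) (isPC_of_iso e₂.symm h))))
      · intro hk h
        exact isPC_of_iso e₂ (Groth.Agent.PerfLib.isPC_obj₂ T hT m (h1 m) (h3.2 (by omega)
          (Groth.Agent.PerfLib.isPC_obj₃ _ hT' m (h1' (m + 1) (by omega)) (isPC_of_iso (P.mapIso e₂).symm h))))
    exact ⟨fun hk h => (main (Groth.Agent.PerfLib.isFT_HD_top (Groth.Agent.PerfLib.isPC_mono hmb h) hb)).1 hk h,
      fun hk h => (main ((isFT_push_iff i _).1 (QCohLib.isFT_of_iso (eH b)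
        (Groth.Agent.PerfLib.isFT_HD_top (Groth.Agent.PerfLib.isPC_mono hmb h)
          fun j hj => (isZero_HD_push_iff i E j).2 (hb j hj))))).2 hk h⟩

end Groth.Agent.ImmPCLib
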