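import Groth.Agent.QCohLib.FinType
import Groth.Agent.ProjClosedImmLib.Stalk

/-!
# Finite type modules and direct image along closed immersions
-/

set_option autoImplicit false
set_option backward.isDefEq.respectTransparency false
set_option backward.isDefEq.respectTransparency.types false

universe u

open CategoryTheory CategoryTheory.Limits AlgebraicGeometry TopologicalSpace Opposite

namespace Groth.Agent.ImmPCLib

variable {Z Y : Scheme.{u}} (i : Z ⟶ Y) [IsClosedImmersion i]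

theorem exists_preimage_opens (V : Z.Opens) : ∃ V' : Y.Opens, i ⁻¹ᵁ V' = V := by
  obtain ⟨t, ht, hV⟩ := i.isClosedEmbedding.isInducing.isOpen_iff.1 V.2
  exact ⟨⟨t, ht⟩, Opens.ext hV⟩

omit [IsClosedImmersion i] in
theorem app_res {A B : Y.Opens} (h : A ≤ B) (b : Γ(Y, B)) :
    i.app A (Y.presheaf.map (homOfLE h).op b) =
      Z.presheaf.map (homOfLE (show i ⁻¹ᵁ A ≤ i ⁻¹ᵁ B from fun _ ha => h ha)).op (i.app B b) :=
  ConcreteCategory.congr_hom (i.naturality (homOfLE h).op) b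

omit [IsClosedImmersion i] in
theorem res_res {A B C : Z.Opens} (f : A ⟶ B) (g : B ⟶ C) (b : Γ(Z, C)) :
    Z.presheaf.map f.op (Z.presheaf.map g.op b) = Z.presheaf.map (f ≫ g).op b :=
  (ConcreteCategory.congr_hom (Z.presheaf.map_comp g.op f.op) b).symm

theorem genOn_push {M : Z.Modules} {U : Y.Opens} {I : Type u} [Fintype I]
    {s : I → Γ(M, i ⁻¹ᵁ U)} (hs : QCohLib.GenOn M (i ⁻¹ᵁ U) s) :
    QCohLib.GenOn ((Scheme.Modules.pushforward i).obj M) U (fun k => s k) := by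
  intro V hV t p hp
  by_cases hpr : p ∈ Set.range i
  · obtain ⟨z, rfl⟩ := hpr
    obtain ⟨W, hW, hWU, hzW, c, hc⟩ := hs (i ⁻¹ᵁ V) (fun a ha => hV ha) t z hp
    obtain ⟨W', hW'⟩ := exists_preimage_opens i W
    have hlift : ∀ k, ∃ (A : Y.Opens) (hA : A ≤ V ⊓ W') (_ : i z ∈ A) (c' : Γ(Y, A)),
        i.app A c' = Z.presheaf.map (homOfLE
          (show i ⁻¹ᵁ A ≤ W from fun a ha => hW' ▸ (hA ha).2)).op (c k) := by
      intro k
      obtain ⟨g, hg⟩ := i.stalkMap_surjective z (Z.presheaf.germ W z hzW (c k))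
      obtain ⟨B, hB, b, rfl⟩ := Y.presheaf.exists_germ_eq (x := i z) g
      rw [Scheme.Hom.germ_stalkMap_apply] at hg
      obtain ⟨O, hzO, iB, iW, hO⟩ := TopCat.Presheaf.germ_eq Z.presheaf z hB hzW _ _ hg
      obtain ⟨O', hO'⟩ := exists_preimage_opens i O
      have hzA : i z ∈ V ⊓ W' ⊓ B ⊓ O' :=
        ⟨⟨⟨hp, show z ∈ i ⁻¹ᵁ W' by rw [hW']; exact hzW⟩, hB⟩, show z ∈ i ⁻¹ᵁ O' by rw [hO']; exact hzO⟩
      refine ⟨V ⊓ W' ⊓ B ⊓ O', inf_le_left.trans inf_le_left, hzA,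
        Y.presheaf.map (homOfLE (inf_le_left.trans inf_le_right)).op b, ?_⟩
      have hle : i ⁻¹ᵁ (V ⊓ W' ⊓ B ⊓ O') ≤ O := fun a ha => hO' ▸ ha.2
      have h1 := congrArg (Z.presheaf.map (homOfLE hle).op) hO
      change _ = _
      rw [app_res i (inf_le_left.trans inf_le_right) b]
      exact ((res_res (homOfLE hle) iB _).symm.trans h1).trans (res_res (homOfLE hle) iW _)
    choose A hA hzA c' hc' using hlift
    let O : Y.Opens := V ⊓ W' ⊓ Finset.univ.inf A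
    have hzO : i z ∈ O := by
      refine ⟨⟨hp, show z ∈ i ⁻¹ᵁ W' by rw [hW']; exact hzW⟩, ?_⟩
      rw [SetLike.mem_coe, ← SetLike.mem_coe, Opens.coe_finset_inf]
      simpa using hzA
    have hOA : ∀ k, O ≤ A k := fun k => inf_le_right.trans (Finset.inf_le (Finset.mem_univ k))
    refine ⟨O, inf_le_left.trans inf_le_left, fun a ha => hV ha.1.1, hzO,
      fun k => Y.presheaf.map (homOfLE (hOA k)).op (c' k), ?_⟩
    have hle : i ⁻¹ᵁ O ≤ W := fun a ha => hW' ▸ ha.1.2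
    have h1 := congrArg (M.presheaf.map (homOfLE hle).op) hc
    rw [QCohLib.map_map', map_sum] at h1
    refine Eq.trans ?_ (h1.trans (Finset.sum_congr rfl fun k _ => ?_))
    · rfl
    · rw [QCohLib.map_smul', QCohLib.map_map']
      change _ = i.app O (Y.presheaf.map (homOfLE (hOA k)).op (c' k)) •
        M.presheaf.map (homOfLE (show i ⁻¹ᵁ O ≤ i ⁻¹ᵁ U from fun _ ha => hV ha.1.1)).op (s k)
      rw [app_res i (hOA k), hc' k, res_res]
      rfl
  · refine ⟨V ⊓ ⟨(Set.range i)ᶜ, i.isClosedEmbedding.isClosed_range.isOpen_compl⟩, inf_le_left,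
      inf_le_left.trans hV, ⟨hp, hpr⟩, fun _ => 0, ?_⟩
    have hbot : i ⁻¹ᵁ (V ⊓ ⟨(Set.range i)ᶜ, i.isClosedEmbedding.isClosed_range.isOpen_compl⟩) = ⊥ := by
      ext a
      simp
    refine TopCat.Sheaf.eq_of_locally_eq' ((QCohLib.toAbF Z).obj M : TopCat.Sheaf AddCommGrpCat _)
      (fun j : PEmpty.{u + 1} => PEmpty.elim j) _ (fun j => PEmpty.elim j) ?_ _ _ fun j => PEmpty.elim j
    intro a ha
    have : a ∈ (⊥ : Z.Opens) := hbot ▸ ha
    exact this.elim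

theorem genOn_of_push {M : Z.Modules} {U : Y.Opens} {I : Type u} [Fintype I]
    {s : I → Γ(M, i ⁻¹ᵁ U)} (hs : QCohLib.GenOn ((Scheme.Modules.pushforward i).obj M) U (fun k => s k)) :
    QCohLib.GenOn M (i ⁻¹ᵁ U) s := by
  intro V hV t z hz
  obtain ⟨V₀, hV₀⟩ := exists_preimage_opens i V
  have hle : i ⁻¹ᵁ (V₀ ⊓ U) ≤ V := fun a ha => hV₀ ▸ ha.1
  obtain ⟨W, hW, hWU, hzW, c, hc⟩ := hs (V₀ ⊓ U) inf_le_right
    (M.presheaf.map (homOfLE hle).op t) (i z) ⟨show z ∈ i ⁻¹ᵁ V₀ by rw [hV₀]; exact hz, hV hz⟩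
  refine ⟨i ⁻¹ᵁ W, fun a ha => hle (hW ha), fun a ha => hWU ha, hzW, fun k => i.app W (c k), ?_⟩
  refine Eq.trans ?_ (hc.trans (Finset.sum_congr rfl fun k _ => ?_))
  · exact (QCohLib.map_map' M (homOfLE (fun a ha => hW ha : i ⁻¹ᵁ W ≤ i ⁻¹ᵁ (V₀ ⊓ U))) (homOfLE hle) t).symm
  · rfl

/-- Finite type is insensitive to direct image along a closed immersion. -/
theorem isFT_push_iff (M : Z.Modules) :
    CohB1.IsFT ((Scheme.Modules.pushforward i).obj M) ↔ CohB1.IsFT M := by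
  constructor
  · intro h
    refine QCohLib.isFT_of_forall fun z => ?_
    obtain ⟨U, hU, n, s, hs⟩ := QCohLib.exists_genOn_of_isFT h (i z)
    exact ⟨i ⁻¹ᵁ U, hU, n, fun k => s k, genOn_of_push i hs⟩
  · intro h
    refine QCohLib.isFT_of_forall fun y => ?_
    by_cases hy : y ∈ Set.range i
    · obtain ⟨z, rfl⟩ := hy
      obtain ⟨V, hV, n, s, hs⟩ := QCohLib.exists_genOn_of_isFT h z
      obtain ⟨U, rfl⟩ := exists_preimage_opens i V
      exact ⟨U, hV, n, _, genOn_push i hs⟩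
    · let U : Y.Opens := ⟨(Set.range i)ᶜ, i.isClosedEmbedding.isClosed_range.isOpen_compl⟩
      have hbot : ∀ a, a ∉ i ⁻¹ᵁ U := fun a ha => ha ⟨a, rfl⟩
      refine ⟨U, hy, 0, _, genOn_push i (M := M) (U := U) (I := ULift.{u} (Fin 0)) (s := fun k => k.down.elim0)
        fun V hV t p hp => (hbot p (hV hp)).elim⟩

end Groth.Agent.ImmPCLib
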